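import Cfsg.Agent.H957.EPX.CoreOf
import Cfsg.Agent.H638.G2Iso
import Cfsg.Agent.H936.List12c
import Cfsg.Agent.S2658

/-!
# S5745, family `G₂(q)`: simple subgroups of cross characteristic have a representation of degree at most `7` (helper957)
-/

set_option autoImplicit false
set_option linter.unusedSectionVars false

universe u v

namespace Cfsg.Agent.H957.EPX

open Matrix Cfsg Cfsg.Geo Cfsg.Lie Cfsg.Agent.H915.LD Cfsg.Agent.H912.Bd

/-- the identity of the octonions -/
def octOne (F : Type*) [Field F] : Fin 8 → F := ![1, 0, 0, 0, 0, 0, 0, 1]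

theorem one_zorn {F : Type*} [Field F] (x : Fin 8 → F) : zornMul (octOne F) x = x := by
  ext i
  fin_cases i <;> simp [zornMul, octOne, dot3, cross3]

theorem zorn_one {F : Type*} [Field F] (x : Fin 8 → F) : zornMul x (octOne F) = x := by
  ext i
  fin_cases i <;> simp [zornMul, octOne, dot3, cross3]

theorem octOne_ne {F : Type*} [Field F] : octOne F ≠ 0 := by
  intro h
  have := congrFun h 0
  simp [octOne] at this

theorem fix_octOne {F : Type*} [Field F] (g : Cfsg.Lie.G2 F) :
    ((g : GL (Fin 8) F) : Matrix (Fin 8) (Fin 8) F) *ᵥ octOne F = octOne F := by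
  have hg : ∀ x y, ((g : GL (Fin 8) F) : Matrix (Fin 8) (Fin 8) F) *ᵥ zornMul x y =
      zornMul (((g : GL (Fin 8) F) : Matrix (Fin 8) (Fin 8) F) *ᵥ x)
        (((g : GL (Fin 8) F) : Matrix (Fin 8) (Fin 8) F) *ᵥ y) := g.2
  have h1 := hg (octOne F) (((g : GL (Fin 8) F)⁻¹ : GL (Fin 8) F).1 *ᵥ octOne F)
  have h2 : ((g : GL (Fin 8) F) : Matrix (Fin 8) (Fin 8) F) *ᵥ
      (((g : GL (Fin 8) F)⁻¹ : GL (Fin 8) F).1 *ᵥ octOne F) = octOne F := by
    rw [Matrix.mulVec_mulVec, ← Units.val_mul, mul_inv_cancel, Units.val_one, Matrix.one_mulVec]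
  rw [one_zorn, h2, zorn_one] at h1
  exact h1.symm

/-- **Degree at most seven.** -/
theorem g2_core {T : Type u} [Group T] [Finite T] [IsSimpleGroup T] (hna : ∃ a b : T, a * b ≠ b * a)
    {p : ℕ} [Fact p.Prime] {K : Type} [Field K] [Finite K] [CharP K p] (f : T →* chevG2.group K)
    (hf : f ≠ 1) : ∃ m ≤ 7, ∃ (E : Type) (_ : Field E) (_ : Finite E) (_ : CharP E p) (P : Subgroup (GL (Fin m) E)),
      Core P ∧ Nonempty (T ≃* P) ∧ Nonempty (T ≃* Soc P) := by
  obtain ⟨e⟩ := H638.G2Iso.equiv (F := K)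
  let ρ : T →* GL (Fin 8) K := (Cfsg.Lie.G2 K).subtype.comp (e.symm.toMonoidHom.comp f)
  have hρ : ρ ≠ 1 := by
    intro h
    apply hf
    ext1 g
    have h1 : ((e.symm (f g) : Cfsg.Lie.G2 K) : GL (Fin 8) K) = 1 := congrArg (fun ρ : T →* GL (Fin 8) K => ρ g) h
    have h2 : e.symm (f g) = 1 := Subtype.ext h1
    exact e.symm.map_eq_one_iff.1 h2
  exact exists_core_fix hna ρ hρ octOne_ne (fun g => fix_octOne (e.symm (f g)))

/-- A linear group is a projective representation for every prime. -/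
theorem pr_of_equiv {T : Type u} [Group T] [Finite T] {F : Type v} [Field F] {n : ℕ}
    {P : Subgroup (GL (Fin n) F)} (e : T ≃* P) (r : ℕ) : PR F n r T := by
  refine ⟨P, inferInstance, e.symm.toMonoidHom, P.subtype, e.symm.surjective, ?_, ?_, ?_⟩
  · intro x hx y
    have : x = 1 := e.symm.map_eq_one_iff.1 hx
    rw [this, one_mul, mul_one]
  · have : e.symm.toMonoidHom.ker = ⊥ := (MonoidHom.ker_eq_bot_iff _).2 e.symm.injective
    rw [this, Subgroup.card_bot]
    exact Nat.coprime_one_left r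
  · intro x hx
    have h1 : x = 1 := Subtype.ext hx
    rw [h1]
    exact one_mem _

end Cfsg.Agent.H957.EPX
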