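import Cfsg.Agent.H957.EPX.U33Pts
import Cfsg.Agent.H957.EPX.SocOf
import Cfsg.Agent.H161.G2Main
import Cfsg.Agent.H957.EPX.G2Seven
import Cfsg.Agent.S1059

/-!
# `U₃(3)` in `G₂(4)` (helper957, for S5745)
-/

set_option autoImplicit false

namespace Cfsg.Agent.H957.EPX.G2Four

open Subgroup Cfsg Cfsg.Lie Cfsg.Agent.H284 Cfsg.Agent.H912.Bd Cfsg.Agent.H419.EP Cfsg.Agent.H209.EPX Cfsg.Agent.H742.EX

variable {F : Type} [Field F] [Fintype F]

theorem card_G (hF : Fintype.card F = 4) : Nat.card ↥(chevG2.group F) = 251596800 := by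
  have h1 : Nat.card ↥(chevG2.group F) = _ := Cfsg.Agent.S1059.result rfl
  rw [h1, hF]
  norm_num

/-- no elements of order `7 r`, `r = 2, 5, 13` -/
theorem not_dvd (hF : Fintype.card F = 4) {g : ↥(chevG2.group F)} (hg : orderOf g = 7) {r : ℕ} (hr : r.Prime)
    (h7 : r ≠ 7) (h3 : r ≠ 3) : ¬ r ∣ Nat.card (centralizer ({g} : Set ↥(chevG2.group F))) := by
  intro hd
  have := Fact.mk hr
  have := Fact.mk Nat.prime_two
  obtain ⟨c, hc⟩ := exists_prime_orderOf_dvd_card' r hd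
  have hcg : Commute g (c : ↥(chevG2.group F)) := (mem_centralizer_singleton_iff.1 c.2).symm
  have hc' : orderOf (c : ↥(chevG2.group F)) = r := by rw [orderOf_coe, hc]
  have h1 : orderOf (g * c) = 7 * r := by
    rw [hcg.orderOf_mul_eq_mul_orderOf_of_coprime, hg, hc']
    rw [hg, hc']
    exact (Nat.coprime_primes (by norm_num) hr).2 (Ne.symm h7)
  obtain ⟨M, hM1, hM2⟩ := Cfsg.Agent.H161.G2Main.upper (F := F) (p := 2) (n := 2) (by rw [hF]; norm_num) (by norm_num)
    ⟨g * c, rfl⟩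
  rw [h1] at hM1
  have h7M : 7 ∣ M := (dvd_mul_right 7 r).trans hM1
  have hM : M = 21 := by
    rcases hM2 with h | h | h | h | h | ⟨_, h | h⟩ | ⟨h, _⟩
    all_goals first
      | (rw [h]; norm_num; done)
      | omega
  rw [hM] at hM1
  obtain ⟨k, hk⟩ := hM1
  have h4 : r * k = 3 := by
    have : 7 * (r * k) = 7 * 3 := by rw [← mul_assoc, ← hk]
    omega
  have h5 : r ∣ 3 := ⟨k, h4.symm⟩
  exact h3 ((Nat.prime_dvd_prime_iff_eq hr Nat.prime_three).1 h5)

theorem card_cent (hF : Fintype.card F = 4) {g : ↥(chevG2.group F)} (hg : orderOf g = 7) :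
    Nat.card (centralizer ({g} : Set ↥(chevG2.group F))) ≤ 189 := by
  have h1 := card_subgroup_dvd_card (centralizer ({g} : Set ↥(chevG2.group F)))
  rw [card_G hF] at h1
  have hc : ∀ r : ℕ, r.Prime → r ≠ 7 → r ≠ 3 →
      Nat.Coprime (Nat.card (centralizer ({g} : Set ↥(chevG2.group F)))) r := fun r hr h7 h3 =>
    ((Nat.Prime.coprime_iff_not_dvd hr).2 (not_dvd hF hg hr h7 h3)).symm
  have h2 := (hc 2 (by norm_num) (by norm_num) (by norm_num)).pow_right 12
  have h3 := (hc 5 (by norm_num) (by norm_num) (by norm_num)).pow_right 2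
  have h4 := hc 13 (by norm_num) (by norm_num) (by norm_num)
  have h5 : Nat.card (centralizer ({g} : Set ↥(chevG2.group F))) ∣ 189 := by
    have h6 := (h2.mul_right h3).mul_right h4
    refine h6.dvd_of_dvd_mul_left ?_
    have e : (2 ^ 12 * 5 ^ 2 * 13 * 189 : ℕ) = 251596800 := by norm_num
    rw [e]
    exact h1
  exact Nat.le_of_dvd (by norm_num) h5

/-- **`U₃(3)` in `G₂(4)`** -/
theorem row [hs : IsSimpleGroup ↥(chevG2.group F)] (hF : Fintype.card F = 4) {H N : Subgroup ↥(chevG2.group F)} {T : Type} [Group T] {e : N ≃* (Fin 1 → T)}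
    (h : EPS H N e) (hT : IsU 3 3 T) : False := by
  have hfin : Finite ↥(chevG2.group F) := inferInstance
  obtain ⟨K, iK, iF, hK, ⟨f⟩⟩ := hT
  have hE := ept_of_eps h
  obtain ⟨N', h1, h2, h3, ⟨e'⟩⟩ := hasSoc_of_eps h
  obtain ⟨g, hgN, hg, hi⟩ := U33Pts.index_bound hE h1 h2 hK (e'.trans f) h3
  have hF2 := U33Pts.F_le h1 h2 hK (e'.trans f) h3 hg
  have hc := card_cent hF hg
  have hA := U33Pts.card_A_cases h1 h2 hK (e'.trans f) h3
  have hG := H.card_mul_index
  rw [card_G hF] at hG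
  generalize Cfsg.Agent.H742.EX.F H g = f at hi hF2
  generalize Nat.card (centralizer ({g} : Set ↥(chevG2.group F))) = c at hF2 hc
  rcases hA with hA | hA
  · rw [hA] at hG hF2
    omega
  · rw [hA] at hG hF2
    omega

end Cfsg.Agent.H957.EPX.G2Four
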