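import Cfsg.Agent.H957.EPX.G2Cross
import Cfsg.Agent.H957.EPX.G2Four
import Cfsg.Agent.H998.EPA.Six
import Cfsg.Agent.H347.EPX.GThree
import Cfsg.Agent.H919.EPX.Good

/-!
# S5745: the cell `g2_cross` (helper957)
-/

set_option autoImplicit false

namespace Cfsg.Agent.H957.EPX

open Cfsg Cfsg.Lie

/-- **The cell `g2_cross`.** -/
theorem g2_cross (hCFSG : ∀ (T : Type) [Group T] [Finite T] [IsSimpleGroup T], IsKnownSimple' T)
    (F : Type) [Field F] [Fintype F] (p : ℕ) [hp : Fact p.Prime] [CharP F p] [hs : IsSimpleGroup ↥(chevG2.group F)]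
    (h3 : 3 ≤ Fintype.card F) : Cfsg.Agent.H542.EPX.Cross p ↥(chevG2.group F) := by
  by_cases hF3 : Fintype.card F = 3
  · have hp3 : p = 3 := by
      obtain ⟨n, -, hn⟩ := FiniteField.card F p
      rw [hF3] at hn
      have h1 : p ∣ 3 := by
        rw [hn]
        exact dvd_pow_self p n.pos.ne'
      exact (Nat.prime_dvd_prime_iff_eq hp.out Nat.prime_three).1 h1
    subst hp3
    exact Cfsg.Agent.H347.EPX.GThree.cross_three F hF3
  · refine g2_cross_of hCFSG (fun Q _ _ _ A Γ h hS => Cfsg.Agent.H998.EPA.card_lt_six h hS)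
      (fun Q _ _ _ A Γ h hS => ?_) F p h3 (fun h => absurd h hF3) (fun h => absurd h hF3)
      (fun h4 H N T _ e h hT => G2Four.row h4 h hT)
    have h13 : Fact (Nat.Prime 13) := ⟨by norm_num⟩
    exact Cfsg.Agent.H919.EPX.l213 (F := ZMod 13) (ZMod.card 13) h hS

end Cfsg.Agent.H957.EPX
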