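import Cfsg.Agent.H915.LD
import Cfsg.Agent.H203.LSDef

/-!
# From a representation of a simple group over a finite field to a core (helper957)

`exists_core` : `T` a finite non-abelian simple group, `ρ : T →* GL_n(F)` nontrivial, `F` finite of characteristic `p`.
Then there are `m ≤ n`, a finite field `E` of characteristic `p` and `P ≤ GL_m(E)` with `Core P`, `P ≃* T ≃* Soc P`.
`exists_core_lt` : `m < n` if `T` fixes a non-zero vector.
-/

set_option autoImplicit false
set_option linter.unusedSectionVars false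
set_option linter.style.haveILetI false

universe u

namespace Cfsg.Agent.H957.EPX

open Matrix Cfsg Cfsg.Geo Cfsg.Agent.H915.LD Cfsg.Agent.H203.LS
open scoped commutatorElement

section

variable {T : Type u} [Group T] {k : Type} [Field k]

/-- the matrices of a representation -/
noncomputable def toGL {U : Type*} [AddCommGroup U] [Module k U] {d : ℕ} (b : Module.Basis (Fin d) k U)
    (σ : T →* (U →ₗ[k] U)) : T →* GL (Fin d) k :=
  ((LinearMap.toMatrixAlgEquiv b).toAlgHom : (U →ₗ[k] U) →* Matrix (Fin d) (Fin d) k).comp σ |>.toHomUnits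

theorem toGL_apply {U : Type*} [AddCommGroup U] [Module k U] {d : ℕ} (b : Module.Basis (Fin d) k U)
    (σ : T →* (U →ₗ[k] U)) (g : T) : ((toGL b σ g : GL (Fin d) k) : Matrix (Fin d) (Fin d) k) =
      LinearMap.toMatrixAlgEquiv b (σ g) := rfl

theorem toGL_ne_one {U : Type*} [AddCommGroup U] [Module k U] {d : ℕ} (b : Module.Basis (Fin d) k U)
    (σ : T →* (U →ₗ[k] U)) (h : ∃ g, σ g ≠ 1) : toGL b σ ≠ 1 := by
  obtain ⟨g, hg⟩ := h
  intro h1
  apply hg
  have h2 : ((toGL b σ g : GL (Fin d) k) : Matrix (Fin d) (Fin d) k) = 1 := by rw [h1]; rfl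
  rw [toGL_apply] at h2
  exact (LinearMap.toMatrixAlgEquiv b).injective (h2.trans (map_one (LinearMap.toMatrixAlgEquiv b)).symm)

/-- the operators of a matrix representation -/
noncomputable def toEnd {m : ℕ} (ρ : T →* GL (Fin m) k) : T →* ((Fin m → k) →ₗ[k] (Fin m → k)) :=
  ((Matrix.toLinAlgEquiv' : Matrix (Fin m) (Fin m) k ≃ₐ[k] _).toAlgHom : _ →* _).comp
    ((Units.coeHom (Matrix (Fin m) (Fin m) k)).comp ρ)

theorem toEnd_apply {m : ℕ} (ρ : T →* GL (Fin m) k) (g : T) (v : Fin m → k) :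
    toEnd ρ g v = (ρ g : Matrix (Fin m) (Fin m) k) *ᵥ v := rfl

theorem toEnd_ne_one {m : ℕ} (ρ : T →* GL (Fin m) k) (h : ρ ≠ 1) : ∃ g, toEnd ρ g ≠ 1 := by
  by_contra hcon
  push Not at hcon
  apply h
  ext1 g
  apply Units.ext
  have h1 := hcon g
  apply (Matrix.toLinAlgEquiv' : Matrix (Fin m) (Fin m) k ≃ₐ[k] _).injective
  exact h1.trans (map_one (Matrix.toLinAlgEquiv' : Matrix (Fin m) (Fin m) k ≃ₐ[k] _)).symm

/-- A nontrivial representation of smallest degree of a perfect group is irreducible. -/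
theorem irr_of_min (hP : commutator T = ⊤) {V : Type} [AddCommGroup V] [Module k V] [FiniteDimensional k V]
    (hmin : ∀ (U : Type) [AddCommGroup U] [Module k U] [FiniteDimensional k U] (σ : T →* (U →ₗ[k] U)),
      (∃ g, σ g ≠ 1) → Module.finrank k V ≤ Module.finrank k U)
    (ρ : T →* (V →ₗ[k] V)) (hρ : ∃ g, ρ g ≠ 1) (W : Submodule k V) (hW : ∀ g, ∀ v ∈ W, ρ g v ∈ W) :
    W = ⊥ ∨ W = ⊤ := by
  by_contra hcon
  push Not at hcon
  obtain ⟨hW0, hW1⟩ := hcon
  by_cases h1 : ∃ g, res ρ W hW g ≠ 1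
  · have := hmin W (res ρ W hW) h1
    have := Submodule.finrank_lt hW1
    omega
  by_cases h2 : ∃ g, quo ρ W hW g ≠ 1
  · have := hmin (V ⧸ W) (quo ρ W hW) h2
    have h4 := Submodule.finrank_quotient_add_finrank W
    have h5 : 0 < Module.finrank k W := by
      haveI : Nontrivial W := Submodule.nontrivial_iff_ne_bot.2 hW0
      exact Module.finrank_pos
    omega
  push Not at h1 h2
  obtain ⟨g, hg⟩ := hρ
  apply hg
  have e1 : ∀ g, ∀ v ∈ W, ρ g v = v := fun g v hv => by
    have := LinearMap.congr_fun (h1 g) ⟨v, hv⟩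
    exact congrArg Subtype.val this
  have e2 : ∀ g v, ρ g v - v ∈ W := fun g v => by
    have := LinearMap.congr_fun (h2 g) (W.mkQ v)
    have h3 : W.mkQ (ρ g v) = W.mkQ v := by simpa [quo] using this
    exact (Submodule.Quotient.eq W).1 h3
  apply eq_one_of_comm hP ρ
  intro a b
  ext v
  have h3 : ∀ a b, ρ (a * b) v = ρ a v + ρ b v - v := by
    intro a b
    rw [map_mul, Module.End.mul_apply]
    have h4 := e1 a _ (e2 b v)
    rw [map_sub] at h4
    rw [sub_eq_iff_eq_add] at h4
    rw [h4]; abel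
  rw [h3, h3]; abel

end

/-- `T` has a nontrivial representation of degree `m` over the finite field `E`. -/
def RepOn (p m : ℕ) (T : Type u) [Group T] (E : Type) [Field E] : Prop :=
  Finite E ∧ CharP E p ∧ ∃ ρ : T →* GL (Fin m) E, ρ ≠ 1

theorem perfect_of_simple {T : Type u} [Group T] [IsSimpleGroup T] (hna : ∃ a b : T, a * b ≠ b * a) :
    commutator T = ⊤ := by
  rcases (inferInstance : (commutator T).Normal).eq_bot_or_eq_top with h | h
  · exfalso
    obtain ⟨a, b, hab⟩ := hna
    apply hab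
    have h1 : ⁅a, b⁆ ∈ commutator T := Subgroup.commutator_mem_commutator (Subgroup.mem_top a) (Subgroup.mem_top b)
    rw [h, Subgroup.mem_bot, commutatorElement_def] at h1
    calc a * b = a * b * a⁻¹ * b⁻¹ * (b * a) := by group
      _ = b * a := by rw [h1, one_mul]
  · exact h


section main

variable {T : Type u} [Group T] {p : ℕ}

theorem ker_eq_bot [IsSimpleGroup T] {H : Type*} [Group H] (ρ : T →* H) (h : ρ ≠ 1) : ρ.ker = ⊥ := by
  rcases (inferInstance : ρ.ker.Normal).eq_bot_or_eq_top with h1 | h1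
  · exact h1
  · exfalso
    apply h
    ext1 g
    have h2 : g ∈ ρ.ker := by rw [h1]; exact Subgroup.mem_top g
    exact h2

/-- descent to a subfield -/
theorem exists_down {m : ℕ} {E : Type} [Field E] (ρ : T →* GL (Fin m) E) (hρ : ρ ≠ 1) (F₀ : Subfield E)
    (h : RealisableOver F₀ (matrixSet ρ.range)) : ∃ ρ' : T →* GL (Fin m) F₀, ρ' ≠ 1 := by
  obtain ⟨B, hB⟩ := h
  have hB' : ∀ g i j, ((B : Matrix (Fin m) (Fin m) E) * (ρ g : Matrix (Fin m) (Fin m) E) *
      ((B⁻¹ : GL (Fin m) E) : Matrix (Fin m) (Fin m) E)) i j ∈ F₀ := fun g i j =>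
    hB _ ⟨ρ g, ⟨g, rfl⟩, rfl⟩ i j
  let f : T →* Matrix (Fin m) (Fin m) F₀ :=
    { toFun := fun g i j => ⟨_, hB' g i j⟩
      map_one' := by
        ext i j
        change ((B : Matrix (Fin m) (Fin m) E) * (ρ 1 : Matrix (Fin m) (Fin m) E) *
          ((B⁻¹ : GL (Fin m) E) : Matrix (Fin m) (Fin m) E)) i j = _
        rw [map_one, Units.val_one, mul_one, ← Units.val_mul, mul_inv_cancel, Units.val_one]
        by_cases hij : i = j
        · subst hij; rw [Matrix.one_apply_eq, Matrix.one_apply_eq]; rfl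
        · rw [Matrix.one_apply_ne hij, Matrix.one_apply_ne hij]; rfl
      map_mul' := fun a b => by
        ext i j
        change ((B : Matrix (Fin m) (Fin m) E) * (ρ (a * b) : Matrix (Fin m) (Fin m) E) *
          ((B⁻¹ : GL (Fin m) E) : Matrix (Fin m) (Fin m) E)) i j = _
        have h1 : (B : Matrix (Fin m) (Fin m) E) * (ρ (a * b) : Matrix (Fin m) (Fin m) E) *
            ((B⁻¹ : GL (Fin m) E) : Matrix (Fin m) (Fin m) E) =
            ((B : Matrix (Fin m) (Fin m) E) * (ρ a : Matrix (Fin m) (Fin m) E) *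
              ((B⁻¹ : GL (Fin m) E) : Matrix (Fin m) (Fin m) E)) *
            ((B : Matrix (Fin m) (Fin m) E) * (ρ b : Matrix (Fin m) (Fin m) E) *
              ((B⁻¹ : GL (Fin m) E) : Matrix (Fin m) (Fin m) E)) := by
          rw [map_mul]
          simp only [← Units.val_mul]
          congr 1
          group
        rw [h1]
        change _ = F₀.subtype (∑ l : Fin m, _)
        rw [map_sum, Matrix.mul_apply]
        rfl }
  refine ⟨f.toHomUnits, ?_⟩
  intro h1
  apply hρ
  ext1 g
  have h2 : f g = 1 := by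
    have := congrArg (fun ρ : T →* GL (Fin m) F₀ => ((ρ g : GL (Fin m) F₀) : Matrix (Fin m) (Fin m) F₀)) h1
    exact this
  have h3 : (B : Matrix (Fin m) (Fin m) E) * (ρ g : Matrix (Fin m) (Fin m) E) *
      ((B⁻¹ : GL (Fin m) E) : Matrix (Fin m) (Fin m) E) = 1 := by
    ext i j
    have h4 := congrArg (fun M : Matrix (Fin m) (Fin m) F₀ => ((M i j : F₀) : E)) h2
    refine Eq.trans h4 ?_
    by_cases hij : i = j
    · subst hij; rw [Matrix.one_apply_eq, Matrix.one_apply_eq]; rfl
    · rw [Matrix.one_apply_ne hij, Matrix.one_apply_ne hij]; rfl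
  have h5 : B * ρ g * B⁻¹ = 1 := by
    apply Units.ext
    rw [Units.val_mul, Units.val_mul, h3, Units.val_one]
  have h6 : ρ g = B⁻¹ * (B * ρ g * B⁻¹) * B := by group
  rw [h6, h5]
  simp

/-- extension of scalars -/
theorem exists_up {m : ℕ} {E E' : Type} [Field E] [Field E'] (φ : E →+* E') (ρ : T →* GL (Fin m) E) (hρ : ρ ≠ 1) :
    ((Matrix.GeneralLinearGroup.map φ).comp ρ : T →* GL (Fin m) E') ≠ 1 := by
  intro h
  apply hρ
  ext1 g
  apply Units.ext
  ext i j
  have h1 := congrArg (fun ρ : T →* GL (Fin m) E' => ((ρ g : GL (Fin m) E') : Matrix (Fin m) (Fin m) E') i j) h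
  apply φ.injective
  refine Eq.trans h1 ?_
  by_cases hij : i = j
  · subst hij
    simp
  · simp [Matrix.one_apply_ne hij]

/-- **The core of a representation.** -/
theorem exists_core [Finite T] [hs : IsSimpleGroup T] (hna : ∃ a b : T, a * b ≠ b * a) [Fact p.Prime] {n : ℕ}
    {F : Type} [Field F] [Finite F] [CharP F p] (ρ : T →* GL (Fin n) F) (hρ : ρ ≠ 1) :
    ∃ m ≤ n, ∃ (E : Type) (_ : Field E) (_ : Finite E) (_ : CharP E p) (P : Subgroup (GL (Fin m) E)),
      Core P ∧ Nonempty (T ≃* P) ∧ Nonempty (T ≃* Soc P) := by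
  classical
  have hT := perfect_of_simple hna
  -- the degree
  have hex : ∃ m, ∃ (E : Type) (_ : Field E), RepOn p m T E := ⟨n, F, _, inferInstance, inferInstance, ρ, hρ⟩
  obtain ⟨m, hm, hmin⟩ : ∃ m, (∃ (E : Type) (_ : Field E), RepOn p m T E) ∧
      ∀ m', (∃ (E : Type) (_ : Field E), RepOn p m' T E) → m ≤ m' :=
    ⟨Nat.find hex, Nat.find_spec hex, fun m' h => Nat.find_min' hex h⟩
  have hmn : m ≤ n := hmin n ⟨F, _, inferInstance, inferInstance, ρ, hρ⟩
  have hex2 : ∃ c, ∃ (E : Type) (_ : Field E), RepOn p m T E ∧ Nat.card E = c := by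
    obtain ⟨E, i, h⟩ := hm
    exact ⟨_, E, i, h, rfl⟩
  obtain ⟨c, ⟨E, iE, ⟨hEf, hEp, σ, hσ⟩, hEc⟩, hcmin⟩ : ∃ c, (∃ (E : Type) (_ : Field E), RepOn p m T E ∧ Nat.card E = c) ∧
      ∀ c', (∃ (E : Type) (_ : Field E), RepOn p m T E ∧ Nat.card E = c') → c ≤ c' :=
    ⟨Nat.find hex2, Nat.find_spec hex2, fun c' h => Nat.find_min' hex2 h⟩
  -- irreducible over every field
  have irr : ∀ (E' : Type) [Field E'] [Finite E'] [CharP E' p] (τ : T →* GL (Fin m) E'), τ ≠ 1 →
      ∀ W : Submodule E' (Fin m → E'), (∀ g, ∀ v ∈ W, (τ g : Matrix (Fin m) (Fin m) E') *ᵥ v ∈ W) → W = ⊥ ∨ W = ⊤ := by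
    intro E' _ _ _ τ hτ W hW
    refine irr_of_min hT ?_ (toEnd τ) (toEnd_ne_one τ hτ) W hW
    intro U _ _ _ κ hκ
    rw [Module.finrank_fin_fun]
    exact hmin _ ⟨E', inferInstance, inferInstance, inferInstance,
      toGL (Module.finBasisOfFinrankEq E' U rfl) κ, toGL_ne_one _ _ hκ⟩
  have hker := ker_eq_bot σ hσ
  have hinj : Function.Injective σ := (MonoidHom.ker_eq_bot_iff σ).1 hker
  let e : T ≃* σ.range := MonoidHom.ofInjective hinj
  have hPs : IsSimpleGroup σ.range := (MulEquiv.isSimpleGroup_congr e).1 hs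
  have hPna : ∃ a b : σ.range, a * b ≠ b * a := by
    obtain ⟨a, b, hab⟩ := hna
    refine ⟨e a, e b, fun h => hab (e.injective ?_)⟩
    rw [map_mul, map_mul, h]
  have hsc : (scalars (Fin m) E).subgroupOf σ.range = ⊥ := by
    have hn : ((scalars (Fin m) E).subgroupOf σ.range).Normal := by
      constructor
      intro z hz g
      have h1 := Subgroup.mem_center_iff.1 (scalars_le_center hz) g
      rw [h1, mul_inv_cancel_right]
      exact hz
    rcases hn.eq_bot_or_eq_top with h | h
    · exact h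
    · exfalso
      obtain ⟨a, b, hab⟩ := hPna
      apply hab
      have h1 : b ∈ (scalars (Fin m) E).subgroupOf σ.range := by rw [h]; exact Subgroup.mem_top b
      exact Subgroup.mem_center_iff.1 (scalars_le_center h1) a
  have e2 : σ.range ≃* Soc σ.range :=
    (QuotientGroup.quotientBot (G := σ.range)).symm.trans (QuotientGroup.quotientMulEquivOfEq hsc.symm)
  have hcore : Core σ.range := by
    refine ⟨?_, (MulEquiv.isSimpleGroup_congr e2).1 hPs, ?_, ⟨?_, ?_⟩, ?_⟩
    · rw [MonoidHom.range_eq_map, ← Subgroup.map_commutator]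
      congr 1
    · intro hc
      obtain ⟨a, b, hab⟩ := hPna
      apply hab
      apply e2.injective
      rw [map_mul, map_mul]
      exact hc.is_comm.comm _ _
    · intro W hW
      refine irr E σ hσ W ?_
      intro g v hv
      exact hW _ ⟨σ g, ⟨g, rfl⟩, rfl⟩ (Submodule.mem_map_of_mem hv)
    · intro M hM
      -- an eigenvalue over an extension
      have hm0 : 0 < m := by
        by_contra h0
        have h0' : m = 0 := by omega
        subst h0'
        apply hσ
        ext g i
        exact Fin.elim0 i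
      let χ := M.charpoly
      have hχ : χ.degree ≠ 0 := by
        rw [Matrix.charpoly_degree_eq_dim]
        simp only [Fintype.card_fin, ne_eq, Nat.cast_eq_zero]
        omega
      let E' := χ.SplittingField
      let φ : E →+* E' := algebraMap E E'
      have : Finite E' := Module.finite_of_finite E
      have : CharP E' p := charP_of_injective_algebraMap φ.injective p
      obtain ⟨l, hl⟩ : ∃ l : E', (χ.map φ).eval l = 0 :=
        (Polynomial.SplittingField.splits χ).exists_eval_eq_zero (by rwa [Polynomial.degree_map])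
      have hτ := exists_up φ σ hσ
      set τ : T →* GL (Fin m) E' := (Matrix.GeneralLinearGroup.map φ).comp σ with hτd
      let M' : Matrix (Fin m) (Fin m) E' := M.map φ
      have hM' : ∀ g, M' * (τ g : Matrix (Fin m) (Fin m) E') = (τ g : Matrix (Fin m) (Fin m) E') * M' := by
        intro g
        have h1 := hM _ ⟨σ g, ⟨g, rfl⟩, rfl⟩
        have h2 := congrArg (fun X : Matrix (Fin m) (Fin m) E => X.map φ) h1
        simp only [Matrix.map_mul] at h2
        exact h2
      have h1 : (scalar (Fin m) l - M').det = 0 := by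
        rw [← Matrix.eval_charpoly, Matrix.charpoly_map]
        exact hl
      obtain ⟨v, hv0, hv⟩ := Matrix.exists_mulVec_eq_zero_iff.2 h1
      let W : Submodule E' (Fin m → E') := LinearMap.ker (scalar (Fin m) l - M').mulVecLin
      have hcomm : ∀ g, (scalar (Fin m) l - M') * (τ g : Matrix (Fin m) (Fin m) E') =
          (τ g : Matrix (Fin m) (Fin m) E') * (scalar (Fin m) l - M') := by
        intro g
        rw [sub_mul, mul_sub, hM' g, (Matrix.scalar_commute l (fun _ => mul_comm _ _) _).eq]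
      have hW : W = ⊤ := by
        rcases irr E' τ hτ W (by
          intro g w hw
          have hw' : (scalar (Fin m) l - M') *ᵥ w = 0 := hw
          change (scalar (Fin m) l - M') *ᵥ ((τ g : Matrix (Fin m) (Fin m) E') *ᵥ w) = 0
          rw [Matrix.mulVec_mulVec, hcomm, ← Matrix.mulVec_mulVec, hw', Matrix.mulVec_zero]) with h | h
        · exfalso
          apply hv0
          have h2 : v ∈ W := hv
          rwa [h, Submodule.mem_bot] at h2
        · exact h
      have h2 : ∀ i j, M' i j = (scalar (Fin m) l : Matrix (Fin m) (Fin m) E') i j := by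
        intro i j
        have h3 : (Pi.single j (1 : E') : Fin m → E') ∈ W := by rw [hW]; exact Submodule.mem_top
        have h4 : (scalar (Fin m) l - M') *ᵥ (Pi.single j (1 : E')) = 0 := h3
        have h5 := congrFun h4 i
        rw [Matrix.mulVec_single_one] at h5
        simp only [Matrix.col_apply, Matrix.sub_apply, Pi.zero_apply] at h5
        exact (sub_eq_zero.1 h5).symm
      refine ⟨M ⟨0, hm0⟩ ⟨0, hm0⟩, ?_⟩
      ext i j
      apply φ.injective
      have h3 : φ (M i j) = (scalar (Fin m) l : Matrix (Fin m) (Fin m) E') i j := h2 i j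
      have h4 : φ (M ⟨0, hm0⟩ ⟨0, hm0⟩) = (scalar (Fin m) l : Matrix (Fin m) (Fin m) E') ⟨0, hm0⟩ ⟨0, hm0⟩ := h2 _ _
      rw [Matrix.smul_apply, smul_eq_mul, map_mul, h3, h4]
      by_cases hij : i = j
      · subst hij
        simp
      · simp [Matrix.one_apply_ne hij, Matrix.diagonal_apply_ne _ hij]
    · intro F₀ hF₀ hR
      obtain ⟨ρ', hρ'⟩ := exists_down σ hσ F₀ hR
      have h1 : CharP F₀ p := by
        exact RingHom.charP F₀.subtype F₀.subtype.injective p
      have h2 : c ≤ Nat.card F₀ := hcmin _ ⟨F₀, inferInstance, ⟨inferInstance, h1, ρ', hρ'⟩, rfl⟩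
      apply hF₀
      rw [← hEc] at h2
      have h3 : Function.Bijective (Subtype.val : F₀ → E) := by
        refine (Nat.bijective_iff_injective_and_card _).2 ⟨Subtype.val_injective, ?_⟩
        exact le_antisymm (Nat.card_le_card_of_injective _ Subtype.val_injective) h2
      rw [eq_top_iff]
      intro x _
      obtain ⟨y, rfl⟩ := h3.2 x
      exact y.2
  exact ⟨m, hmn, E, iE, hEf, hEp, σ.range, hcore, ⟨e⟩, ⟨e.trans e2⟩⟩

/-- A common fixed vector can be factored out. -/
theorem exists_quot (hT : commutator T = ⊤) {n : ℕ} {F : Type} [Field F] (ρ : T →* GL (Fin n) F) (hρ : ρ ≠ 1)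
    {v : Fin n → F} (hv0 : v ≠ 0) (hv : ∀ g, (ρ g : Matrix (Fin n) (Fin n) F) *ᵥ v = v) :
    ∃ ρ' : T →* GL (Fin (n - 1)) F, ρ' ≠ 1 := by
  let W : Submodule F (Fin n → F) := Submodule.span F {v}
  have e1 : ∀ g, ∀ w ∈ W, toEnd ρ g w = w := by
    intro g w hw
    obtain ⟨c, rfl⟩ := Submodule.mem_span_singleton.1 hw
    rw [map_smul, toEnd_apply, hv]
  have hW : ∀ g, ∀ w ∈ W, toEnd ρ g w ∈ W := fun g w hw => by rw [e1 g w hw]; exact hw
  have h4 := Submodule.finrank_quotient_add_finrank W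
  have h5 : Module.finrank F W = 1 := finrank_span_singleton hv0
  rw [Module.finrank_fin_fun] at h4
  have hd : Module.finrank F ((Fin n → F) ⧸ W) = n - 1 := by omega
  by_cases h2 : ∃ g, quo (toEnd ρ) W hW g ≠ 1
  · exact ⟨toGL (Module.finBasisOfFinrankEq F _ hd) (quo (toEnd ρ) W hW), toGL_ne_one _ _ h2⟩
  exfalso
  push Not at h2
  have e2 : ∀ g w, toEnd ρ g w - w ∈ W := fun g w => by
    have := LinearMap.congr_fun (h2 g) (W.mkQ w)
    have h3 : W.mkQ (toEnd ρ g w) = W.mkQ w := by simpa [quo] using this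
    exact (Submodule.Quotient.eq W).1 h3
  obtain ⟨g, hg⟩ := toEnd_ne_one ρ hρ
  apply hg
  apply eq_one_of_comm hT (toEnd ρ)
  intro a b
  apply LinearMap.ext
  intro w
  have h3 : ∀ a b, toEnd ρ (a * b) w = toEnd ρ a w + toEnd ρ b w - w := by
    intro a b
    rw [map_mul, Module.End.mul_apply]
    have h4 := e1 a _ (e2 b w)
    rw [map_sub] at h4
    rw [sub_eq_iff_eq_add] at h4
    rw [h4]; abel
  rw [h3, h3]; abel

/-- The core when a non-zero vector is fixed. -/
theorem exists_core_fix [Finite T] [IsSimpleGroup T] (hna : ∃ a b : T, a * b ≠ b * a) [Fact p.Prime] {n : ℕ}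
    {F : Type} [Field F] [Finite F] [CharP F p] (ρ : T →* GL (Fin n) F) (hρ : ρ ≠ 1)
    {v : Fin n → F} (hv0 : v ≠ 0) (hv : ∀ g, (ρ g : Matrix (Fin n) (Fin n) F) *ᵥ v = v) :
    ∃ m ≤ n - 1, ∃ (E : Type) (_ : Field E) (_ : Finite E) (_ : CharP E p) (P : Subgroup (GL (Fin m) E)),
      Core P ∧ Nonempty (T ≃* P) ∧ Nonempty (T ≃* Soc P) := by
  obtain ⟨ρ', hρ'⟩ := exists_quot (perfect_of_simple hna) ρ hρ hv0 hv
  exact exists_core hna ρ' hρ'

end main

end Cfsg.Agent.H957.EPX
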