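import Cfsg.Agent.H957.EPX.G2List
import Cfsg.Agent.H957.EPX.SocOf
import Cfsg.Agent.H957.EP.RowSixUB
import Cfsg.Agent.H104.EP.U42
import Cfsg.Agent.H220.EP.ASeven
import Cfsg.Agent.H417.EP.Eleven
import Cfsg.Agent.H119.EP.UThree
import Cfsg.Agent.H689.EP.L27Row
import Cfsg.Agent.H7.EP.EightL2
import Cfsg.Agent.H354.EPV.Psp
import Cfsg.Agent.H414.EPV.AutPSU
import Cfsg.Agent.H276.EP.PslCount
import Cfsg.Agent.H59.EP.UBFin
import Cfsg.Agent.H542.EPX.Cells
import Cfsg.Agent.S1059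

/-!
# S5745, family `G₂(q)`: the cell `g2_cross` from its rows (helper957)
-/

set_option autoImplicit false
set_option linter.unusedSectionVars false

universe u v

namespace Cfsg.Agent.H957.EPX

open Matrix Cfsg Cfsg.Lie Cfsg.Agent.H912.Bd Cfsg.Agent.H284 Cfsg.Agent.H209.EPX Cfsg.Agent.H419.EP
  Cfsg.Agent.H59.EP Cfsg.Agent.H957.EP

/-- the order polynomial -/
def g2Ord (q : ℕ) : ℕ := q ^ 6 * (q ^ 2 - 1) * (q ^ 6 - 1)

theorem g2Ord_mono {q₀ q : ℕ} (h : q₀ ≤ q) : g2Ord q₀ ≤ g2Ord q :=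
  Nat.mul_le_mul (Nat.mul_le_mul (Nat.pow_le_pow_left h 6) (Nat.sub_le_sub_right (Nat.pow_le_pow_left h 2) 1))
    (Nat.sub_le_sub_right (Nat.pow_le_pow_left h 6) 1)

section

variable {Q : Type u} [Group Q] [Finite Q] {A : Subgroup Q} {Γ : Subgroup (MulAut Q)}

/-- `|Q| ≤ (index) (|Aut T|)` -/
theorem card_le_of {T : Type v} [Group T] [Finite T] (hS : HasSoc A T) {i a : ℕ} (hi : A.index ≤ i)
    (ha : Nat.card (MulAut T) ≤ a) : Nat.card Q ≤ i * a := by
  rw [← A.index_mul_card]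
  exact Nat.mul_le_mul hi (hS.card_le.trans ha)

end

theorem gal_num : ([(2, 9), (3, 4), (5, 1), (7, 1)].map fun x : ℕ × ℕ => gal x.1 x.2).sum ≤ 8283670 := by decide +kernel

/-- `Sp₆(2)`: plain bound -/
theorem idx_sp6 {Q : Type u} [Group Q] [Finite Q] (hs : IsSimpleGroup Q) {A : Subgroup Q} {Γ : Subgroup (MulAut Q)}
    (h : EPT A Γ) (hg : TwoGen.{u}) {L : Type*} [Group L] [Finite L] (hS : HasSoc A L) (hL : IsSimpleGroup L)
    (hLn : ¬ IsMulCommutative L) (h0 : Nat.card L = 1451520) (h1 : Nat.card (MulAut L) = 1451520) :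
    A.index ≤ 10 ^ 18 := by
  have hc : Nat.card A = 1451520 := by
    have h2 := hS.card_le
    have h3 := Nat.le_of_dvd Nat.card_pos hS.card_dvd
    omega
  exact index_ub hs h hg hS hL hLn [(2, 9), (3, 4), (5, 1), (7, 1)] 1451520 8283670 _ (by simp; norm_num) (by decide)
    (by simp) hc (by norm_num) gal_num (by norm_num)

theorem sp6_num {q : ℕ} (h3 : 3 ≤ q) (h63 : q < 64) (hpp : IsPrimePow q) (hd : 1451520 ∣ g2Ord q) : False := by
  rw [isPrimePow_nat_iff_bounded] at hpp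
  revert hpp hd
  unfold g2Ord
  interval_cases q <;> decide +kernel

theorem card_psp6 {K : Type} [Field K] [Fintype K] (hK : Fintype.card K = 2) : Nat.card (Cfsg.PSp 3 K) = 1451520 := by
  have h := Cfsg.Agent.H354.EPV.card_psp (K := K) hK (m := 3) (by norm_num)
  rw [Finset.prod_range_succ, Finset.prod_range_succ, Finset.prod_range_succ, Finset.prod_range_zero] at h
  norm_num at h
  omega

theorem card_aut_psp6 {K : Type} [Field K] [Fintype K] (hK : Fintype.card K = 2) :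
    Nat.card (MulAut (Cfsg.PSp 3 K)) = 1451520 := by
  have h := Cfsg.Agent.H354.EPV.card_aut (K := K) Nat.prime_two (f := 1) le_rfl (by rw [hK]; norm_num) (m := 3)
    (by norm_num) (by norm_num)
  rw [Finset.prod_range_succ, Finset.prod_range_succ, Finset.prod_range_succ, Finset.prod_range_zero] at h
  norm_num at h
  exact h

theorem card_psu42 {K : Type} [Field K] [Fintype K] (hK : Fintype.card K = 2 ^ 2) : Nat.card (Cfsg.PSU 4 K 2) = 25920 := by
  have h := Cfsg.Agent.S0280.result (F := K) hK 4 (by norm_num)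
  rw [Finset.prod_range_succ, Finset.prod_range_succ, Finset.prod_range_succ, Finset.prod_range_succ,
    Finset.prod_range_zero] at h
  norm_num [Nat.even_iff] at h
  omega

section kill

variable {Q : Type} [Group Q] [Finite Q] {A : Subgroup Q} {Γ : Subgroup (MulAut Q)}
  {T : Type} [Group T] [Finite T]

theorem kill_l2_two (hs : IsSimpleGroup Q) (h : EPT A Γ) (hS : HasSoc A T) {n k : ℕ} (hk : k = 2 ^ n) (h4 : 4 ≤ k)
    (hT : IsL 2 k T) : Nat.card Q ≤ (n * (k * (k ^ 2 - 1))) *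
      (1 + ((k ^ 2 + k + 1) + n * (k * (k ^ 2 - 1) / 60)) * (2 * (n * (k * (k ^ 2 - 1)) / 6))) := by
  obtain ⟨K, iK, iF, hK, ⟨e⟩⟩ := hT
  have : CharP K 2 := charP_of_card_eq_prime_pow (by rw [hK, hk])
  exact Cfsg.Agent.H7.EP.card_le_two hs h (n := n) (by rw [hK, hk]) (by rw [hK]; exact h4) (hS.congr e) hK rfl

theorem kill_a5 (hs : IsSimpleGroup Q) (h : EPT A Γ) (hS : HasSoc A T)
    (hT : Nonempty (T ≃* alternatingGroup (Fin 5))) : Nat.card Q ≤ 110520 := by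
  obtain ⟨K, iK, iF, hK⟩ := Cfsg.Agent.H936.List12.exists_field Nat.prime_two (k := 2) (by norm_num)
  obtain ⟨e⟩ := hT
  obtain ⟨e'⟩ := S0252.result (F := K) (by rw [hK]; norm_num)
  exact kill_l2_two hs h hS (n := 2) (k := 4) (by norm_num) le_rfl ⟨K, iK, iF, by rw [hK]; norm_num, ⟨e.trans e'.symm⟩⟩

theorem kill_l28 (hs : IsSimpleGroup Q) (h : EPT A Γ) (hS : HasSoc A T) (hT : IsL 2 8 T) : Nat.card Q ≤ 73920168 :=
  kill_l2_two hs h hS (n := 3) (k := 8) (by norm_num) (by norm_num) hT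

theorem kill_a7 (h : EPT A Γ) (hS : HasSoc A T) (hT : Nonempty (T ≃* alternatingGroup (Fin 7))) :
    Nat.card Q ≤ 51984 * 5040 := by
  obtain ⟨e⟩ := hT
  have h1 := hS.congr e
  exact card_le_of h1 (Cfsg.Agent.H220.EP.index_le_seven h h1) (Nat.le_of_dvd (by norm_num) card_aut_a7_dvd)

theorem kill_l27 (h : EPT A Γ) (hS : HasSoc A T) (hT : IsL 2 7 T) : Nat.card Q ≤ 1693776 := by
  obtain ⟨K, iK, iF, hK, ⟨e⟩⟩ := hT
  obtain ⟨N, h1, h2, h3, ⟨f⟩⟩ := hS.congr e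
  exact (Cfsg.Agent.H689.EP.psl27 h h1 h2 hK f h3).2.1

theorem kill_l211 (h : EPT A Γ) (hS : HasSoc A T) (hT : IsL 2 11 T) : Nat.card Q ≤ 5274 * 1320 := by
  have h11 : Fact (Nat.Prime 11) := ⟨by norm_num⟩
  obtain ⟨e⟩ := Cfsg.Agent.H912.Five.psl_zmod (by norm_num : Nat.Prime 11) hT
  have h0 := hS.congr e
  obtain ⟨N, h1, h2, h3, ⟨f⟩⟩ := id h0
  rw [← A.index_mul_card]
  refine Nat.mul_le_mul (Cfsg.Agent.H417.EP.Eleven.index_le h h1 h2 f h3) ?_
  have := Cfsg.Agent.H276.EP.card_A_le_psl (K := ZMod 11) h0 (p := 11) (f := 1) le_rfl (by rw [ZMod.card, pow_one])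
    (by rw [ZMod.card]; norm_num)
  rw [ZMod.card] at this
  exact this.trans (by norm_num)

theorem kill_l213 (hS : HasSoc A T) (hT : IsL 2 13 T)
    (h13 : HasSoc A (ProjectiveSpecialLinearGroup (Fin 2) (ZMod 13)) → A.index ≤ 75076) :
    Nat.card Q ≤ 75076 * 2184 := by
  have h11 : Fact (Nat.Prime 13) := ⟨by norm_num⟩
  obtain ⟨e⟩ := Cfsg.Agent.H912.Five.psl_zmod (by norm_num : Nat.Prime 13) hT
  have h0 := hS.congr e
  rw [← A.index_mul_card]
  refine Nat.mul_le_mul (h13 h0) ?_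
  have := Cfsg.Agent.H276.EP.card_A_le_psl (K := ZMod 13) h0 (p := 13) (f := 1) le_rfl (by rw [ZMod.card, pow_one])
    (by rw [ZMod.card]; norm_num)
  rw [ZMod.card] at this
  exact this.trans (by norm_num)

theorem kill_u33 (h : EPT A Γ) (hS : HasSoc A T) (hT : IsU 3 3 T) : Nat.card Q ≤ 4239212544 := by
  obtain ⟨K, iK, iF, hK, ⟨e⟩⟩ := hT
  obtain ⟨N, h1, h2, h3, ⟨f⟩⟩ := hS.congr e
  exact Cfsg.Agent.H119.EP.card_le_psu33 h h1 h2 hK f h3

theorem kill_u42 (h : EPT A Γ) (hS : HasSoc A T) (hT : IsU 4 2 T) : Nat.card Q ≤ 2 ^ 18 * 2 ^ 16 := by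
  obtain ⟨K, iK, iF, hK, ⟨e⟩⟩ := hT
  have h0 := hS.congr e
  have : Finite (Cfsg.PSU 4 K 2) := Finite.of_equiv _ e.toEquiv
  exact card_le_of h0 (Cfsg.Agent.H104.EP.index_le_u42 h (by rw [hK]; norm_num) h0)
    (Cfsg.Agent.H414.EPV.card_mulAut_psu_le hK (by norm_num) (by norm_num))

theorem kill_sp6 (hTs : IsSimpleGroup T) (hs : IsSimpleGroup Q) (h : EPT A Γ) (hS : HasSoc A T) (hT : IsS 3 2 T) {q : ℕ}
    (hQ : Nat.card Q = g2Ord q) (h3 : 3 ≤ q) (hpp : IsPrimePow q) : False := by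
  obtain ⟨K, iK, iF, hK, ⟨e⟩⟩ := hT
  have h0 := hS.congr e
  have hfin : Finite (Cfsg.PSp 3 K) := Finite.of_equiv _ e.toEquiv
  have hsim : IsSimpleGroup (Cfsg.PSp 3 K) := (MulEquiv.isSimpleGroup_congr e).1 hTs
  have hnc : ¬ IsMulCommutative (Cfsg.PSp 3 K) := ncomm_of_not_prime hsim (by rw [card_psp6 hK]; norm_num)
  have h1 := idx_sp6 hs h Cfsg.Agent.H59.EP.twoGen h0 hsim hnc (card_psp6 hK) (card_aut_psp6 hK)
  have h2 : Nat.card Q ≤ 10 ^ 18 * 1451520 := card_le_of h0 h1 (card_aut_psp6 hK).le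
  have h4 : 1451520 ∣ g2Ord q := by
    rw [← hQ, ← card_psp6 hK]
    exact h0.card_dvd.trans (Subgroup.card_subgroup_dvd_card A)
  refine sp6_num h3 ?_ hpp h4
  by_contra hcon
  have h5 := g2Ord_mono (show 64 ≤ q by omega)
  rw [hQ] at h2
  have h6 : 10 ^ 18 * 1451520 < g2Ord 64 := by unfold g2Ord; norm_num
  omega

theorem char_of_dvd {p q : ℕ} (hp : p.Prime) (hpq : p ∣ q) : (q = 3 → p = 3) ∧ (q = 4 → p = 2) := by
  constructor
  · rintro rfl
    exact (Nat.prime_dvd_prime_iff_eq hp Nat.prime_three).1 hpq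
  · rintro rfl
    have : p ∣ 2 ^ 2 := hpq
    exact (Nat.prime_dvd_prime_iff_eq hp Nat.prime_two).1 (hp.dvd_of_dvd_pow this)

/-- **The enumeration.** -/
theorem g2_rows (hTs : IsSimpleGroup T) (hs : IsSimpleGroup Q) (h : EPT A Γ) (hS : HasSoc A T) {p q : ℕ} (hp : p.Prime)
    (hQ : Nat.card Q = g2Ord q) (h3 : 3 ≤ q) (hpp : IsPrimePow q) (hpq : p ∣ q) (hl : G2List p T)
    (hA6 : HasSoc A (alternatingGroup (Fin 6)) → Nat.card Q < 4680000)
    (h13 : HasSoc A (ProjectiveSpecialLinearGroup (Fin 2) (ZMod 13)) → A.index ≤ 75076) :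
    (q = 3 ∧ IsL 2 8 T) ∨ (q = 3 ∧ IsL 2 13 T) ∨ (q = 4 ∧ IsU 3 3 T) := by
  obtain ⟨c3, c4⟩ := char_of_dvd hp hpq
  have o3 : g2Ord 3 = 4245696 := by decide +kernel
  have o4 : g2Ord 4 = 251596800 := by decide +kernel
  have o5 : g2Ord 5 = 5859000000 := by decide +kernel
  have o7 : g2Ord 7 = 664376138496 := by decide +kernel
  have m3 := g2Ord_mono h3
  have m4 : q ≠ 3 → g2Ord 4 ≤ g2Ord q := fun hq => g2Ord_mono (by omega)
  have m5 : q ≠ 3 → q ≠ 4 → g2Ord 5 ≤ g2Ord q := fun hq hq' => g2Ord_mono (by omega)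
  rcases hl with hT | ⟨hp3, hT⟩ | ⟨hp5, hT⟩ | ⟨-, -, hT⟩ | ⟨hp2, hT⟩ | ⟨-, hT⟩ | ⟨-, hT⟩ | ⟨hp3, hT⟩ | ⟨hp2, hp3, hT⟩ | ⟨hp2, hT⟩
  · have := kill_a5 hs h hS hT
    omega
  · obtain ⟨e⟩ := hT
    have := hA6 (hS.congr e)
    have := m4 (fun h => hp3 (c3 h))
    omega
  · have h1 := kill_a7 h hS hT
    have := m5 (fun h => by have := c3 h; omega) (fun h => by have := c4 h; omega)
    omega
  · have := kill_l27 h hS hT
    omega
  · by_cases hq3 : q = 3
    · exact Or.inl ⟨hq3, hT⟩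
    have h1 := kill_l28 hs h hS hT
    have := m4 hq3
    omega
  · by_cases hq3 : q = 3
    · exfalso
      have h11 : Fact (Nat.Prime 11) := ⟨by norm_num⟩
      obtain ⟨e⟩ := Cfsg.Agent.H912.Five.psl_zmod (by norm_num : Nat.Prime 11) hT
      have h1 : 660 ∣ Nat.card Q := by
        rw [← card_l2_11, ← Nat.card_congr e.toEquiv]
        exact hS.card_dvd.trans (Subgroup.card_subgroup_dvd_card A)
      rw [hQ, hq3, o3] at h1
      omega
    have h1 := kill_l211 h hS hT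
    have := m4 hq3
    omega
  · by_cases hq3 : q = 3
    · exact Or.inr (Or.inl ⟨hq3, hT⟩)
    have h1 := kill_l213 hS hT h13
    have := m4 hq3
    omega
  · by_cases hq4 : q = 4
    · exact Or.inr (Or.inr ⟨hq4, hT⟩)
    have h1 := kill_u33 h hS hT
    have := m5 (fun h => hp3 (c3 h)) hq4
    omega
  · exfalso
    have h5 : q ≠ 3 := fun h => hp3 (c3 h)
    have h6 : q ≠ 4 := fun h => hp2 (c4 h)
    have h7 : q ≠ 6 := by
      rintro rfl
      revert hpp
      rw [isPrimePow_nat_iff_bounded]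
      decide
    by_cases hq5 : q = 5
    · obtain ⟨K, iK, iF, hK, ⟨e⟩⟩ := hT
      have h1 : 25920 ∣ Nat.card Q := by
        rw [← card_psu42 hK, ← Nat.card_congr e.toEquiv]
        exact hS.card_dvd.trans (Subgroup.card_subgroup_dvd_card A)
      rw [hQ, hq5, o5] at h1
      omega
    have h1 := kill_u42 h hS hT
    have := g2Ord_mono (show 7 ≤ q by omega)
    omega
  · exact (kill_sp6 hTs hs h hS hT hQ h3 hpp).elim

end kill

/-- **The cell `g2_cross`**, from the rows. -/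
theorem g2_cross_of (hCFSG : ∀ (T : Type) [Group T] [Finite T] [IsSimpleGroup T], IsKnownSimple' T)
    (hA6 : ∀ (Q : Type) [Group Q] [Finite Q] (_ : IsSimpleGroup Q) (A : Subgroup Q) (Γ : Subgroup (MulAut Q)), EPT A Γ →
      HasSoc A (alternatingGroup (Fin 6)) → Nat.card Q < 4680000)
    (h13 : ∀ (Q : Type) [Group Q] [Finite Q] (_ : IsSimpleGroup Q) (A : Subgroup Q) (Γ : Subgroup (MulAut Q)), EPT A Γ →
      HasSoc A (ProjectiveSpecialLinearGroup (Fin 2) (ZMod 13)) → A.index ≤ 75076)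
    (F : Type) [Field F] [Fintype F] (p : ℕ) [hp : Fact p.Prime] [CharP F p] [hs : IsSimpleGroup ↥(chevG2.group F)]
    (h3 : 3 ≤ Fintype.card F)
    (r38 : Fintype.card F = 3 → ∀ (H N : Subgroup ↥(chevG2.group F)) (T : Type) [Group T] (e : N ≃* (Fin 1 → T)),
      EPS H N e → IsL 2 8 T → False)
    (r313 : Fintype.card F = 3 → ∀ (H N : Subgroup ↥(chevG2.group F)) (T : Type) [Group T] (e : N ≃* (Fin 1 → T)),
      EPS H N e → IsL 2 13 T → False)
    (r433 : Fintype.card F = 4 → ∀ (H N : Subgroup ↥(chevG2.group F)) (T : Type) [Group T] (e : N ≃* (Fin 1 → T)),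
      EPS H N e → IsU 3 3 T → False) : Cfsg.Agent.H542.EPX.Cross p ↥(chevG2.group F) := by
  intro H N T _ e h hns hL
  have hfin : Finite ↥(chevG2.group F) := inferInstance
  have hT : IsSimpleGroup T := h.simple
  have hTf : Finite T := finite_of_eps h
  have hl := g2_list (p := p) h.nab (emb h) (emb_injective h) (hCFSG T) hns hL
  have hQ : Nat.card ↥(chevG2.group F) = g2Ord (Fintype.card F) := Cfsg.Agent.S1059.result rfl
  have hpq : p ∣ Fintype.card F := by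
    obtain ⟨n, -, hn⟩ := FiniteField.card F p
    rw [hn]
    exact dvd_pow_self p n.pos.ne'
  rcases g2_rows hT hs (ept_of_eps h) (hasSoc_of_eps h) hp.out hQ h3 (FiniteField.isPrimePow_card F) hpq hl
    (hA6 _ hs _ _ (ept_of_eps h)) (h13 _ hs _ _ (ept_of_eps h)) with ⟨h1, h2⟩ | ⟨h1, h2⟩ | ⟨h1, h2⟩
  · exact r38 h1 H N T e h h2
  · exact r313 h1 H N T e h h2
  · exact r433 h1 H N T e h h2

end Cfsg.Agent.H957.EPX
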