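import Cfsg.Agent.H912.Bd2
import Cfsg.Agent.LieRecognition.SzMatrix

/-!
# `Sz(q)`: degree at least `2 (q - 1)` when the kernel has odd order (helper957)
-/

set_option autoImplicit false
set_option linter.unusedSectionVars false

universe u v

namespace Cfsg.Agent.H957.EPX

open Cfsg.Agent.LieRecognition.SzMatrix Cfsg.Agent.H912.Bd

section

variable {K : Type v} [Field K] {θ : K →+* K} {e : ℕ} (H : Good K θ e)

/-- the centre of the unipotent group -/
def zSub : Subgroup ↥(Cfsg.Lie.Sz K e) where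
  carrier := {x | ∃ b, x = H.u 0 b}
  mul_mem' := by
    rintro _ _ ⟨b, rfl⟩ ⟨c, rfl⟩
    exact ⟨b + c, by rw [H.u_mul]; simp⟩
  one_mem' := ⟨0, H.u_zero.symm⟩
  inv_mem' := by
    rintro _ ⟨b, rfl⟩
    exact ⟨b, by rw [H.u_inv]; simp⟩

/-- the centre and one element outside -/
def aSub : Subgroup ↥(Cfsg.Lie.Sz K e) where
  carrier := {x | ∃ a b, (a = 0 ∨ a = 1) ∧ x = H.u a b}
  mul_mem' := by
    rintro _ _ ⟨a, b, ha, rfl⟩ ⟨a', b', ha', rfl⟩
    refine ⟨a + a', _, ?_, H.u_mul _ _ _ _⟩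
    rcases ha with rfl | rfl <;> rcases ha' with rfl | rfl
    · exact Or.inl (by simp)
    · exact Or.inr (by simp)
    · exact Or.inr (by simp)
    · exact Or.inl (H.add_self 1)
  one_mem' := ⟨0, 0, Or.inl rfl, H.u_zero.symm⟩
  inv_mem' := by
    rintro _ ⟨a, b, ha, rfl⟩
    exact ⟨a, _, ha, H.u_inv _ _⟩

theorem u_conj (c a b : K) : H.u c 0 * H.u a b * (H.u c 0)⁻¹ = H.u a (b + (c * θ a + a * θ c)) := by
  rw [mul_inv_eq_iff_eq_mul, H.u_mul, H.u_mul]
  congr 1
  · ring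
  · linear_combination (-(a * θ c)) * H.two

theorem d_conj (k : Kˣ) (b : K) : H.d k * H.u 0 b * (H.d k)⁻¹ = H.u 0 (b * θ k) := by
  rw [mul_inv_eq_iff_eq_mul, H.d_mul_u]
  simp

theorem four_pow (a b : K) : H.u a b ^ 2 ^ 2 = 1 := by
  have h2 : ∀ a b : K, H.u a b ^ 2 = H.u 0 (a * θ a) := by
    intro a b
    rw [pow_two, H.u_mul]
    congr 1
    · exact H.add_self a
    · linear_combination b * H.two
  have h4 : (2 : ℕ) ^ 2 = 2 * 2 := by norm_num
  rw [h4, pow_mul, h2, h2, map_zero, mul_zero, H.u_zero]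

include H in
theorem exists_not_fix [Fintype K] (h3 : 2 < Fintype.card K) : ∃ c : K, θ c ≠ c := by
  by_contra hcon
  push Not at hcon
  have h1 : ∀ c : K, c = 0 ∨ c = 1 := by
    intro c
    have h2 := H.sq c
    rw [hcon, hcon] at h2
    have h3 : c * (c - 1) = 0 := by linear_combination -h2
    rcases mul_eq_zero.1 h3 with h | h
    · exact Or.inl h
    · exact Or.inr (sub_eq_zero.1 h)
  classical
  have h4 : (Finset.univ : Finset K) ⊆ {0, 1} := by
    intro c _
    rcases h1 c with h | h <;> simp [h]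
  have h5 := Finset.card_le_card h4
  rw [Finset.card_univ] at h5
  have h6 : ({0, 1} : Finset K).card ≤ 2 := Finset.card_le_two
  omega

include H in
/-- **The bound.** -/
theorem pr_sz [Fintype K] (h3 : 2 < Fintype.card K) {F : Type u} [Field F] {n : ℕ} (hF : ((2 : ℕ) : F) ≠ 0)
    (h : PR F n 2 ↥(Cfsg.Lie.Sz K e)) : (Fintype.card K - 1) * 2 ≤ n := by
  classical
  obtain ⟨c, hc⟩ := exists_not_fix H h3
  have hδ : θ c + c ≠ 0 := by
    intro h0
    apply hc
    linear_combination h0 - c * H.two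
  let S : Finset ↥(Cfsg.Lie.Sz K e) := Finset.univ.image H.d
  let S' : Finset ↥(Cfsg.Lie.Sz K e) := {1, H.u c 0}
  have hS : S.card = Fintype.card K - 1 := by
    rw [Finset.card_image_of_injective _ (fun _ _ h => H.d_inj h), Finset.card_univ, Fintype.card_units]
  have h1u : (1 : ↥(Cfsg.Lie.Sz K e)) ≠ H.u c 0 := by
    intro h0
    rw [← H.u_zero] at h0
    have h1 := (H.u_inj h0).1
    apply hc
    rw [← h1, map_zero]
  have hS' : S'.card = 2 := Finset.card_pair h1u
  have hfin : Finite ↥(Cfsg.Lie.Sz K e) := inferInstance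
  rw [← hS, ← hS']
  have hconj : ∀ s ∈ S', ∃ a, s = H.u a 0 := by
    intro s hs
    rcases Finset.mem_insert.1 hs with rfl | hs
    · exact ⟨0, H.u_zero.symm⟩
    · exact ⟨c, Finset.mem_singleton.1 hs⟩
  refine h.bound_mul Nat.prime_two hF (zSub H) ?_ ?_ (e₀ := H.u 0 (θ c + c)) ⟨_, rfl⟩ ?_ S ?_ ?_ (aSub H) ?_ ?_ ?_
    ⟨0, _, Or.inl rfl, rfl⟩ S' ?_ ?_ ?_
  · rintro _ ⟨b, rfl⟩ _ ⟨b', rfl⟩
    rw [H.u_mul, H.u_mul, add_comm b b', map_zero, mul_zero]
  · rintro ⟨_, b, rfl⟩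
    exact ⟨2, Subtype.ext (four_pow H 0 b)⟩
  · intro h0
    rw [← H.u_zero] at h0
    exact hδ (H.u_inj h0).2
  · intro s hs _ ⟨b, hb⟩
    obtain ⟨k, -, rfl⟩ := Finset.mem_image.1 hs
    rw [hb, d_conj]
    exact ⟨_, rfl⟩
  · intro s hs t ht hst
    obtain ⟨k, -, rfl⟩ := Finset.mem_image.1 hs
    obtain ⟨l, -, rfl⟩ := Finset.mem_image.1 ht
    have hkl : θ k + θ l ≠ 0 := by
      intro h0
      apply hst
      have h1 : θ k = θ l := by linear_combination h0 - θ l * H.two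
      have h2 : k = l := Units.ext (θ.injective h1)
      rw [h2]
    refine ⟨H.u 0 ((θ c + c) / (θ k + θ l)), ⟨_, rfl⟩, ?_⟩
    rw [d_conj, d_conj, H.u_inv, H.u_mul]
    congr 1
    · simp
    · field_simp
      simp
      ring
  · rintro _ ⟨a, b, ha, rfl⟩ _ ⟨a', b', ha', rfl⟩
    rw [H.u_mul, H.u_mul, add_comm a a', add_comm b b']
    congr 2
    rcases ha with rfl | rfl <;> rcases ha' with rfl | rfl <;> simp
  · rintro ⟨_, a, b, -, rfl⟩
    exact ⟨2, Subtype.ext (four_pow H a b)⟩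
  · rintro _ ⟨a, b, -, rfl⟩ _ ⟨b', rfl⟩
    rw [H.u_mul, H.u_mul, map_zero]
    congr 1
    · ring
    · ring
  · intro s hs _ ⟨b, hb⟩
    obtain ⟨a, rfl⟩ := hconj s hs
    rw [hb, H.u_mul, H.u_mul, map_zero]
    congr 1
    · ring
    · ring
  · intro s hs _ ⟨a', b, ha', hb⟩
    obtain ⟨a, rfl⟩ := hconj s hs
    rw [hb, u_conj]
    exact ⟨_, _, ha', rfl⟩
  · intro s hs t ht hst
    refine ⟨H.u 1 0, ⟨1, 0, Or.inr rfl, rfl⟩, ?_⟩
    have key : ∀ x y : K, H.u 1 x * (H.u 1 y)⁻¹ = H.u 0 (x + y) := by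
      intro x y
      rw [H.u_inv, H.u_mul]
      congr 1
      · exact H.add_self 1
      · rw [map_one]
        linear_combination H.two
    rcases Finset.mem_insert.1 hs with rfl | hs' <;> rcases Finset.mem_insert.1 ht with rfl | ht'
    · exact absurd rfl hst
    · rw [Finset.mem_singleton.1 ht', u_conj, one_mul, inv_one, mul_one, key]
      congr 1
      rw [map_one]
      ring
    · rw [Finset.mem_singleton.1 hs', u_conj]
      simp only [one_mul, inv_one, mul_one, key]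
      congr 1
      rw [map_one]
      ring
    · exact absurd ((Finset.mem_singleton.1 hs').trans (Finset.mem_singleton.1 ht').symm) hst

end

/-- `Sz(8)`: degree at least `14` when the kernel has odd order -/
theorem sz8_le {K : Type} [Field K] [Fintype K] (hK : Fintype.card K = 8) {F : Type u} [Field F] {n : ℕ}
    (hF : ((2 : ℕ) : F) ≠ 0) (h : PR F n 2 ↥(Cfsg.Lie.Sz K 4)) : 14 ≤ n := by
  classical
  have H := good (F := K) (m := 1) (by rw [hK]; norm_num)
  have h1 := pr_sz H (by rw [hK]; norm_num) hF h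
  rw [hK] at h1
  omega

end Cfsg.Agent.H957.EPX
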