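import Cfsg.Agent.H957.EPX.G2Seven
import Cfsg.Agent.H957.EPX.SzEight
import Cfsg.Agent.H916.T8

/-!
# S5745, family `G₂(q)`: the list of simple subgroups, neither sporadic nor of Lie type in characteristic `p` (helper957)
-/

set_option autoImplicit false
set_option linter.unusedSectionVars false

universe u v

namespace Cfsg.Agent.H957.EPX

open Matrix Cfsg Cfsg.Geo Cfsg.Lie Cfsg.Agent.H915.LD Cfsg.Agent.H912.Bd Cfsg.Agent.H936.List12

/-- the list -/
def G2List (p : ℕ) (T : Type v) [Group T] : Prop :=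
  Nonempty (T ≃* alternatingGroup (Fin 5)) ∨ (p ≠ 3 ∧ Nonempty (T ≃* alternatingGroup (Fin 6))) ∨
  (p = 5 ∧ Nonempty (T ≃* alternatingGroup (Fin 7))) ∨ (p ≠ 2 ∧ p ≠ 7 ∧ IsL 2 7 T) ∨ (p ≠ 2 ∧ IsL 2 8 T) ∨
  (p ≠ 11 ∧ IsL 2 11 T) ∨ (p ≠ 13 ∧ IsL 2 13 T) ∨ (p ≠ 3 ∧ IsU 3 3 T) ∨ (p ≠ 2 ∧ p ≠ 3 ∧ IsU 4 2 T) ∨
  (p ≠ 2 ∧ IsS 3 2 T)

theorem card_dvd_seven {p : ℕ} {r : ℕ} (h : r ≤ 6 + if p = 5 then 1 else 0) (h5 : 5 ≤ r) :
    r = 5 ∨ r = 6 ∨ (p = 5 ∧ r = 7) := by
  split_ifs at h with h1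
  · omega
  · omega

/-- `A₆` is of Lie type in characteristic `3` -/
theorem a6_lie {T : Type v} [Group T] (h : Nonempty (T ≃* alternatingGroup (Fin 6))) : IsLieTypeChar 3 T := by
  obtain ⟨K, iK, iF, hK⟩ := exists_field Nat.prime_three (k := 2) (by norm_num)
  obtain ⟨e⟩ := h
  obtain ⟨e'⟩ := S0254.result (F := K) (by rw [hK]; norm_num)
  exact lie_of_isL (q := 9) Nat.prime_three (by norm_num) le_rfl (fun _ => by norm_num)
    ⟨K, iK, iF, by rw [hK]; norm_num, ⟨e.trans e'.symm⟩⟩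

/-- **The list.** -/
theorem g2_list {T : Type} [Group T] [Finite T] [IsSimpleGroup T] (hna : ∃ a b : T, a * b ≠ b * a)
    {p : ℕ} [hp : Fact p.Prime] {K : Type} [Field K] [Fintype K] [CharP K p] (f : T →* chevG2.group K)
    (hf : Function.Injective f) (hk : IsKnownSimple' T) (hs : ¬ IsSporadicGroup T) (hL : ¬ IsLieTypeChar p T) :
    G2List p T := by
  have hf1 : f ≠ 1 := by
    rintro rfl
    obtain ⟨a, b, hab⟩ := hna
    exact hab (hf rfl)
  have hnc : ¬ IsMulCommutative T := by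
    intro hc
    obtain ⟨a, b, hab⟩ := hna
    exact hab (hc.is_comm.comm a b)
  have hf' : Finite ↥(chevG2.group K) := inferInstance
  -- alternating
  have halt : ∀ r, Nonempty (T ≃* alternatingGroup (Fin r)) → r ≤ 6 + if p = 5 then 1 else 0 := by
    rintro r ⟨e⟩
    refine Cfsg.Agent.S2658.result (F := K) p r f.range ⊥ ⟨?_⟩
    exact (QuotientGroup.quotientBot (G := f.range)).trans ((MonoidHom.ofInjective hf).symm.trans e)
  obtain ⟨m, hm, E, iE, iEf, iEp, P, hC, ⟨e1⟩, ⟨e2⟩⟩ := g2_core (p := p) hna f hf1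
  have hPR : ∀ r, PR E m r T := fun r => pr_of_equiv e1 r
  have hk' : IsKnownSimple' (Soc P) := OddHalf.Known.isKnownSimple'_congr e2 hnc hk
  have hL' : ¬ IsLieTypeChar p (Soc P) := fun h => hL (OddHalf.Known.isLieTypeChar_congr e2.symm h)
  have h0 : CandD p m T := candD_congr e2.symm (list₂ (by omega) hC hk' hL')
  have hne : ∀ {q : ℕ}, q.Prime → q ≠ p → ((q : ℕ) : E) ≠ 0 := fun hq h => cast_ne hq h
  rcases h0 with h | h | h | ⟨h1, h2, h⟩ | h
  · obtain ⟨r, h5, -, -, -, -, h⟩ := h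
    rcases card_dvd_seven (halt r h) h5 with rfl | rfl | ⟨h6, rfl⟩
    · exact Or.inl h
    · exact Or.inr (Or.inl ⟨fun h3 => hL (h3 ▸ a6_lie h), h⟩)
    · exact Or.inr (Or.inr (Or.inl ⟨h6, h⟩))
  · rcases h with ⟨q, h1, h2, h3, h4⟩ | ⟨h1, h2, h3⟩ | ⟨h1, h2, h3⟩ | ⟨h1, h2, h3⟩ | ⟨h1, h1', h2, h3⟩ | ⟨h1, h2, h3⟩ |
      ⟨h1, h2, h3⟩ | ⟨h1, h2, h3⟩ | ⟨h1, h2, h3⟩
    · simp only [Finset.mem_insert, Finset.mem_singleton] at h1
      have h27 : q = 7 → G2List p T := by
        rintro rfl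
        refine Or.inr (Or.inr (Or.inr (Or.inl ⟨?_, ?_, h4⟩)))
        · rintro rfl
          exact hL (lie_of_isL Nat.prime_two (dvd_refl 2) (by norm_num) (by norm_num) (l32_of_l27 h4))
        · rintro rfl
          exact h2 (dvd_refl 7)
      rcases h1 with rfl | rfl | rfl | rfl | rfl | rfl | rfl | rfl
      · exact h27 rfl
      · refine Or.inr (Or.inr (Or.inr (Or.inr (Or.inl ⟨?_, h4⟩))))
        rintro rfl
        exact h2 (by norm_num)
      · refine Or.inr (Or.inr (Or.inr (Or.inr (Or.inr (Or.inl ⟨?_, h4⟩)))))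
        rintro rfl
        exact h2 (dvd_refl 11)
      · refine Or.inr (Or.inr (Or.inr (Or.inr (Or.inr (Or.inr (Or.inl ⟨?_, h4⟩))))))
        rintro rfl
        exact h2 (dvd_refl 13)
      · exfalso
        norm_num at h3
        omega
      · exfalso
        norm_num at h3
        omega
      · exfalso
        norm_num at h3
        omega
      · exfalso
        norm_num at h3
        omega
    · omega
    · exact Or.inr (Or.inr (Or.inr (Or.inr (Or.inr (Or.inr (Or.inr (Or.inl ⟨h1, h3⟩)))))))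
    · omega
    · exact Or.inr (Or.inr (Or.inr (Or.inr (Or.inr (Or.inr (Or.inr (Or.inr (Or.inl ⟨h1, h1', h3⟩))))))))
    · omega
    · omega
    · exact Or.inr (Or.inr (Or.inr (Or.inr (Or.inr (Or.inr (Or.inr (Or.inr (Or.inr ⟨h1, h3⟩))))))))
    · exfalso
      obtain ⟨L, iL, iLf, hL2, ⟨e⟩⟩ := h3
      have := (H916.T8.om hL2 hC p (e2.symm.trans e) (by exact_mod_cast hne Nat.prime_two (Ne.symm h1))
        (by rw [Fintype.card_fin]; omega)).1
      rw [Fintype.card_fin] at this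
      omega
  · rcases h with ⟨h1, h2, h3⟩ | ⟨h1, h2, h3⟩
    · have h2E : ((2 : ℕ) : E) ≠ 0 := hne Nat.prime_two (Ne.symm h1)
      rcases h3 with h | h | ⟨h0, h⟩ | h | h | h
      · refine Or.inr (Or.inr (Or.inr (Or.inl ⟨h1, ?_, h⟩)))
        rintro rfl
        exact hL (lie_of_isL hp.out (dvd_refl 7) le_rfl (fun _ => by norm_num) h)
      · exfalso
        obtain ⟨L, iL, iLf, hL2, ⟨e⟩⟩ := h
        have hch : CharP L 2 := charP_of_dvd Nat.prime_two (by rw [hL2]; norm_num)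
        have := (bd_psl (F := E) Nat.prime_two h2E (m := 3) le_rfl hch).congr e m (hPR 2)
        rw [hL2] at this
        omega
      · exact Or.inr (Or.inr (Or.inr (Or.inr (Or.inr (Or.inr (Or.inr (Or.inr (Or.inl ⟨h1, h0, h⟩))))))))
      · exact Or.inr (Or.inr (Or.inr (Or.inr (Or.inr (Or.inr (Or.inr (Or.inr (Or.inr ⟨h1, h⟩))))))))
      · exfalso
        obtain ⟨L, iL, iLf, hL2, ⟨e⟩⟩ := h
        have := (H916.T8.om hL2 hC p (e2.symm.trans e) (by exact_mod_cast h2E) (by rw [Fintype.card_fin]; omega)).1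
        rw [Fintype.card_fin] at this
        omega
      · exfalso
        obtain ⟨L, iL, iLf, hL2, ⟨e⟩⟩ := h
        have hch : CharP L 2 := charP_of_dvd Nat.prime_two (by rw [hL2]; norm_num)
        have := ((@bd_g2 L iL _ E _ 2 Nat.prime_two hch h2E).congr e) m (hPR 2)
        rw [Nat.card_eq_fintype_card, hL2] at this
        omega
    · exfalso
      obtain ⟨L, iL, iLf, hL2, ⟨e⟩⟩ := h3
      have h3E : ((3 : ℕ) : E) ≠ 0 := hne Nat.prime_three (Ne.symm h1)
      have hch : CharP L 3 := charP_of_dvd Nat.prime_three (by rw [hL2]; norm_num)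
      have := H175.BdSU.bd_psu (F := E) Nat.prime_three (q := 3) hL2 (by norm_num) h3E e m (hPR 3)
      norm_num at this
      omega
  · exfalso
    obtain ⟨L, iL, iLf, hL2, ⟨e⟩⟩ := h
    obtain ⟨L', iL', π, ρ, h3, h4, h5, h6⟩ := hPR 2
    have h7 : PR E m 2 ↥(Cfsg.Lie.Sz L 4) := by
      refine ⟨L', iL', e.toMonoidHom.comp π, ρ, e.surjective.comp h3, ?_, ?_, ?_⟩
      · intro x hx
        exact h4 x (e.map_eq_one_iff.1 hx)
      · have : (e.toMonoidHom.comp π).ker = π.ker := by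
          ext x
          rw [MonoidHom.mem_ker, MonoidHom.mem_ker, MonoidHom.comp_apply]
          exact e.map_eq_one_iff
        rw [this]
        exact h5
      · intro x hx
        rw [MonoidHom.mem_ker, MonoidHom.comp_apply]
        exact e.map_eq_one_iff.2 (MonoidHom.mem_ker.1 (h6 hx))
    have := sz8_le hL2 (hne Nat.prime_two (Ne.symm h1)) h7
    omega
  · exfalso
    apply hs
    unfold IsSporadicGroup
    rcases h with h | h | h | h | h | h | h | h | h
    all_goals tauto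

end Cfsg.Agent.H957.EPX
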